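/-
Monomial patterns and filtrations for matrices in a Chevalley group.
-/
import Cfsg.Agent.Lib.Chev.SteinCells

set_option autoImplicit false

namespace Cfsg.Agent.IterCore

open Cfsg.Lie Cfsg.Agent.Chev
open scoped Matrix

variable {D : ChevalleyDatum} {P : Pk} {F : Type*} [Field F]

/-- The nonzero entries follow a permutation of the roots; the coroot part is preserved. -/
def Perm (P : Pk) (π : ℕ → ℕ) (M : Matrix D.Idx D.Idx F) : Prop :=
  ∀ row col, M row col ≠ 0 → (P.nroots ≤ code P col ∧ P.nroots ≤ code P row) ∨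
    (code P col < P.nroots ∧ code P row = π (code P col) ∧ code P row < P.nroots)

/-- The value of a function of the roots at a coordinate. -/
def ev (P : Pk) (φ : ℕ → ℤ) (x : D.Idx) : ℤ := if code P x < P.nroots then φ (code P x) else 0

/-- The matrix does not lower `φ`. -/
def Filt (P : Pk) (φ : ℕ → ℤ) (M : Matrix D.Idx D.Idx F) : Prop :=
  ∀ row col, M row col ≠ 0 → ev P φ col ≤ ev P φ row

theorem Perm.mul {π ρ : ℕ → ℕ} {M N : Matrix D.Idx D.Idx F} (hM : Perm P π M) (hN : Perm P ρ N) :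
    Perm P (fun r => π (ρ r)) (M * N) := by
  intro row col hne
  rw [Matrix.mul_apply] at hne
  obtain ⟨x, -, hx⟩ := Finset.exists_ne_zero_of_sum_ne_zero hne
  rcases hN x col (right_ne_zero_of_mul hx) with ⟨a, b⟩ | ⟨a, b, c⟩ <;>
    rcases hM row x (left_ne_zero_of_mul hx) with ⟨d, e⟩ | ⟨d, e, f⟩
  · exact Or.inl ⟨a, e⟩
  · omega
  · omega
  · exact Or.inr ⟨a, by rw [e, b], f⟩

theorem Perm.congr {π ρ : ℕ → ℕ} {M : Matrix D.Idx D.Idx F} (hM : Perm P π M)
    (e : ∀ r < P.nroots, π r = ρ r) : Perm P ρ M := by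
  intro row col hne
  rcases hM row col hne with h1 | ⟨a, b, c⟩
  · exact Or.inl h1
  · exact Or.inr ⟨a, by rw [b, e _ a], c⟩

theorem perm_diag (χ : D.Idx → F) : Perm P (fun r => r) (Matrix.diagonal χ) := by
  intro row col hne
  rcases eq_or_ne row col with rfl | e
  · by_cases h : code P row < P.nroots
    · exact Or.inr ⟨h, rfl, h⟩
    · exact Or.inl ⟨not_lt.1 h, not_lt.1 h⟩
  · exact absurd (Matrix.diagonal_apply_ne _ e) hne

theorem perm_one : Perm P (fun r => r) (1 : Matrix D.Idx D.Idx F) := by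
  rw [← Matrix.diagonal_one]; exact perm_diag _

theorem Filt.mul {φ : ℕ → ℤ} {M N : Matrix D.Idx D.Idx F} (hM : Filt P φ M) (hN : Filt P φ N) :
    Filt P φ (M * N) := by
  intro row col hne
  rw [Matrix.mul_apply] at hne
  obtain ⟨x, -, hx⟩ := Finset.exists_ne_zero_of_sum_ne_zero hne
  exact (hN x col (right_ne_zero_of_mul hx)).trans (hM row x (left_ne_zero_of_mul hx))

theorem Perm.filt {π : ℕ → ℕ} {φ : ℕ → ℤ} {M : Matrix D.Idx D.Idx F} (hM : Perm P π M)
    (e : ∀ r < P.nroots, φ (π r) = φ r) : Filt P φ M := by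
  intro row col hne
  unfold ev
  rcases hM row col hne with ⟨a, b⟩ | ⟨a, b, c⟩
  · rw [if_neg (not_lt.2 a), if_neg (not_lt.2 b)]
  · rw [if_pos a, if_pos c, b, e _ a]

/-- Transporting a filtration through a monomial element. -/
theorem Filt.conj {π π' : ℕ → ℕ} {φ ψ : ℕ → ℤ} {p g : GL D.Idx F}
    (hp : Perm P π (p : Matrix D.Idx D.Idx F)) (hp' : Perm P π' ((p⁻¹ : GL D.Idx F) : Matrix D.Idx D.Idx F))
    (hf : Filt P φ ((p * g * p⁻¹ : GL D.Idx F) : Matrix D.Idx D.Idx F))
    (e : ∀ r < P.nroots, ψ r = φ (π r)) (e' : ∀ r < P.nroots, ψ (π' r) = φ r) :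
    Filt P ψ (g : Matrix D.Idx D.Idx F) := by
  intro row col hne
  rw [show g = p⁻¹ * (p * g * p⁻¹) * p by group, Units.val_mul, Matrix.mul_apply] at hne
  obtain ⟨y, -, hy⟩ := Finset.exists_ne_zero_of_sum_ne_zero hne
  have hy1 := left_ne_zero_of_mul hy
  rw [Units.val_mul, Matrix.mul_apply] at hy1
  obtain ⟨x, -, hx⟩ := Finset.exists_ne_zero_of_sum_ne_zero hy1
  have h1 : ev P ψ col = ev P φ y := by
    unfold ev
    rcases hp y col (right_ne_zero_of_mul hy) with ⟨a, b⟩ | ⟨a, b, c⟩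
    · rw [if_neg (not_lt.2 a), if_neg (not_lt.2 b)]
    · rw [if_pos a, if_pos c, b, e _ a]
  have h2 : ev P ψ row = ev P φ x := by
    unfold ev
    rcases hp' row x (left_ne_zero_of_mul hx) with ⟨a, b⟩ | ⟨a, b, c⟩
    · rw [if_neg (not_lt.2 a), if_neg (not_lt.2 b)]
    · rw [if_pos a, if_pos c, b, e' _ a]
  rw [h1, h2]
  exact hf x y (right_ne_zero_of_mul hx)

variable (h : Ok D P)
include h

theorem perm_of_diag {d : GL D.Idx F} (hd : d ∈ D.diagonalSubgroup F) :
    Perm P (fun r => r) (d : Matrix D.Idx D.Idx F) := by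
  obtain ⟨χ, e⟩ := h.coe_diag hd
  rw [e]; exact perm_diag _

theorem perm_nG {i : ℕ} (hi : i < P.rank) :
    Perm P (P.w i) ((h.nG i : GL D.Idx F) : Matrix D.Idx D.Idx F) := by
  intro row col hne
  rw [h.coe_nG hi, cM_apply, Sg, opM_apply] at hne
  by_cases hc : code P col < P.nroots
  · have hb : Nat.blt (code P col) P.nroots = true := by simpa [Nat.blt_eq] using hc
    simp only [Pk.sigCol, hb, cond_true] at hne
    have e : code P row = P.w i (code P col) := by
      by_contra e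
      exact hne (by simp [cf_cons, cf_nil, Ne.symm e])
    exact Or.inr ⟨hc, e, e ▸ h.w_lt hi hc⟩
  · have hb : Nat.blt (code P col) P.nroots = false := by
      rw [← Bool.not_eq_true, Nat.blt_eq]; exact hc
    simp only [Pk.sigCol, hb, cond_false] at hne
    refine Or.inl ⟨not_lt.1 hc, ?_⟩
    by_contra hr
    refine hne ?_
    have e1 : code P col ≠ code P row := by omega
    have e2 : P.nroots + i ≠ code P row := by omega
    simp [cf_cons, cf_nil, e1, e2]

theorem perm_nG_inv {i : ℕ} (hi : i < P.rank) :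
    Perm P (P.w i) (((h.nG i)⁻¹ : GL D.Idx F) : Matrix D.Idx D.Idx F) := by
  rw [show (h.nG (F := F) i)⁻¹ = h.nG i * (h.nG i * h.nG i)⁻¹ by group, Units.val_mul]
  exact (perm_nG h hi).mul (perm_of_diag h (inv_mem (h.nG_sq hi)))

theorem perm_nW : ∀ l, WordOk P l →
    Perm P (wl P l) ((h.nW l : GL D.Idx F) : Matrix D.Idx D.Idx F) ∧
    Perm P (wl P l.reverse) (((h.nW l)⁻¹ : GL D.Idx F) : Matrix D.Idx D.Idx F)
  | [], _ => by
    rw [h.nW_nil, inv_one, Units.val_one]
    exact ⟨perm_one, perm_one⟩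
  | i :: l, hl => by
    obtain ⟨h1, h2⟩ := perm_nW l hl.tail
    rw [h.nW_cons, mul_inv_rev, Units.val_mul, Units.val_mul]
    refine ⟨(perm_nG h hl.head).mul h1, ?_⟩
    refine (h2.mul (perm_nG_inv h hl.head)).congr fun r _ => ?_
    rw [List.reverse_cons, wl_append]
    rfl

/-- The coordinate `k` of a root. -/
def lvl (P : Pk) (k : ℕ) (v : List ℕ) (r : ℕ) : ℤ := P.rv (wl P v r) k

theorem filt_X {k : ℕ} (hk : k < P.rank) {r : ℕ} (hr : r < P.nroots) (h0 : 0 ≤ P.rv r k) (t : F) :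
    Filt P (fun s => P.rv s k) (X D P r t) := by
  intro row col hne
  rcases eq_or_ne row col with rfl | e
  · exact le_rfl
  obtain ⟨j, hj, hz⟩ := (h.X_entry hr t row col).2 e hne
  simp only [ev]
  rcases h.colL_entry hj hr hz with ⟨h1, h2⟩ | ⟨h1, h2 | h2⟩ | ⟨h1, h2, h3, h4, h5⟩
  · rw [if_neg (not_lt.2 h1), h2, if_pos hr]; exact h0
  · rw [h1, if_pos (Ok.ng_lt hr), if_neg (not_lt.2 h2), h.rv_ng hr hk]; omega
  · rw [h1, if_pos (Ok.ng_lt hr), h2, if_pos hr, h.rv_ng hr hk]; omega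
  · rw [h5, if_pos (h.tgt_lt hr h1 h4), if_pos h1, h.rv_additive hr h1 h4 hk]
    nlinarith

/-- A maximal parabolic subgroup respects the coordinate of its node. -/
theorem filt_parabolic {k : ℕ} (hk : k < P.rank) {g : GL D.Idx F}
    (hg : g ∈ D.parabolicSubgroup F {j : ℕ | j ≠ k}) :
    Filt P (fun s => P.rv s k) (g : Matrix D.Idx D.Idx F) := by
  have hd : ∀ {d : GL D.Idx F}, d ∈ D.diagonalSubgroup F →
      Filt P (fun s => P.rv s k) (d : Matrix D.Idx D.Idx F) :=
    fun hd => (perm_of_diag h hd).filt fun _ _ => rfl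
  have hb : ∀ b ∈ D.borelSubgroup F, Filt P (fun s => P.rv s k) (b : Matrix D.Idx D.Idx F) := by
    intro b hb
    obtain ⟨u, hu, d, hd', rfl⟩ := h.mem_borel hb
    rw [Units.val_mul]
    refine Filt.mul ?_ (hd hd')
    rw [h.posUnipotent_eq] at hu
    clear hb
    induction hu using Subgroup.closure_induction'' with
    | one => rw [Units.val_one]; exact perm_one.filt fun _ _ => rfl
    | mem x hx =>
      obtain ⟨r, t, hr, rfl⟩ := hx
      rw [h.coe_xG' (P.isPos_iff.1 hr).2]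
      exact filt_X h hk (P.isPos_iff.1 hr).2 ((h.rv_sign (P.isPos_iff.1 hr).2 hk).1 hr) t
    | inv_mem x hx =>
      obtain ⟨r, t, hr, rfl⟩ := hx
      rw [h.xG_inv, h.coe_xG' (P.isPos_iff.1 hr).2]
      exact filt_X h hk (P.isPos_iff.1 hr).2 ((h.rv_sign (P.isPos_iff.1 hr).2 hk).1 hr) _
    | mul a b _ _ iha ihb => rw [Units.val_mul]; exact iha.mul ihb
  rw [ChevalleyDatum.parabolicSubgroup, ← Subgroup.closure_eq (D.borelSubgroup F),
    ← Subgroup.closure_union] at hg
  have hn : ∀ {j : ℕ}, j < P.rank → j ≠ k → ∀ r < P.nroots, P.rv (P.w j r) k = P.rv r k := by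
    intro j hj hjk r hr
    rw [((h.w_spec hj hr).2.2.2.2.2.1 k hk).1, if_neg (Ne.symm hjk), sub_zero]
  induction hg using Subgroup.closure_induction'' with
  | one => rw [Units.val_one]; exact perm_one.filt fun _ _ => rfl
  | mem x hx =>
    rcases hx with hx | ⟨j, hjk, hj, hg⟩
    · exact hb x hx
    · have hj' : j < P.rank := h.rank ▸ hj
      rw [h.simple_eq hj', ← h.coe_nt (h.sim_lt hj')] at hg
      rw [Units.ext hg]
      exact (perm_nG h hj').filt (hn hj' hjk)
  | inv_mem x hx =>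
    rcases hx with hx | ⟨j, hjk, hj, hg⟩
    · exact hb _ (inv_mem hx)
    · have hj' : j < P.rank := h.rank ▸ hj
      rw [h.simple_eq hj', ← h.coe_nt (h.sim_lt hj')] at hg
      rw [Units.ext hg]
      exact (perm_nG_inv h hj').filt (hn hj' hjk)
  | mul a b _ _ iha ihb => rw [Units.val_mul]; exact iha.mul ihb

end Cfsg.Agent.IterCore
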