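/-
Finite checks for the example in `E₈`.
-/
import Cfsg.Agent.Lib.IterCore.Data
import Cfsg.Agent.Lib.Chev.AllC
import Cfsg.Agent.Lib.Chev.Weyl

set_option autoImplicit false
set_option Elab.async false

namespace Cfsg.Agent.IterCore

open Cfsg.Agent.Chev

/-- A packed value. -/
def tval (T r : ℕ) : ℕ := (T >>> (8 * r)) &&& 255

/-- The word of a path, computed. -/
def pword' : Bool × List (Bool × List ℕ) → List ℕ
  | (s₀, []) => bif s₀ then [3] else []
  | (s₀, (s, u) :: rest) => pword' (s₀, rest) ++ (bif s then [3] ++ u ++ [3] else u)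

/-- A path ends on the first side after six steps and its letters avoid the node. -/
def ckPath (p : (Bool × List (Bool × List ℕ)) × List ℤ × ℕ) : Bool :=
  Nat.beq p.1.2.length 6 && ((p.1.2.head?.map Prod.fst).getD true == false) &&
    (p.1.2.all fun s => s.2.all fun i => Nat.blt i 8 && !(Nat.beq i 3)) &&
    decide ((pword' p.1).foldl (fun c m => E8.pk.vstep m c) (E8.pk.vinit 3) = p.2.1) &&
    E8.pk.allRoots.all fun r => decide ((tval p.2.2 r : ℤ) = E8.pk.vval p.2.1 r + 128)

/-- Every root is raised and lowered. -/
def ckSigns : Bool := E8.pk.allRoots.all fun a =>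
  (paths.any fun p => Nat.blt 128 (tval p.2.2 a)) && (paths.any fun p => Nat.blt (tval p.2.2 a) 128)

/-- Two roots are separated, or distinguished modulo seven. -/
def ckSep (a : ℕ) : Bool := E8.pk.allRoots.all fun b =>
  Nat.beq a b || (paths.any fun p => Nat.blt (tval p.2.2 b) (tval p.2.2 a)) ||
    (!(E8.pk.isPos a) && E8.pk.isPos b &&
      (List.range 8).any fun i => !((E8.pk.A i a - E8.pk.A i b) % 7 == 0))

/-- No root is killed by all Cartan integers modulo seven. -/
def ckNz : Bool := E8.pk.allRoots.all fun r => (List.range 8).any fun i => !(E8.pk.A i r % 7 == 0)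

/-- The roots of the parabolic subgroup. -/
def inPar (r : ℕ) : Bool := E8.pk.isPos r || E8.pk.rv r 3 == 0

/-- Membership. -/
def memB (l : List ℕ) (r : ℕ) : Bool := l.any fun x => Nat.beq x r

/-- The positive root elements and the reflections normalise a root set. -/
def ckNorm (S : List ℕ) : Bool :=
  (S.all fun s => Nat.blt s 240 &&
    (List.range 8).all fun i => Nat.beq i 3 || memB S (E8.pk.w i s)) &&
  E8.pk.allRoots.all fun r => !(E8.pk.isPos r) || S.all fun s =>
    Nat.beq s r || (!(Nat.beq s (E8.pk.ng r)) && (E8.pk.cterms r s).all fun c => memB S c.1)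

/-- The root sets lie in those of the previous terms. -/
def ckDown : (ℕ → Bool) → (ℕ → Bool) → List (List ℕ × List ℕ) → Bool
  | _, _, [] => true
  | a, b, (S, T) :: rest =>
    (S.all fun s => a s && b (E8.pk.w 3 s)) && (T.all fun t => b t && a (E8.pk.w 3 t)) &&
      ckNorm S && ckNorm T && ckDown (memB S) (memB T) rest

theorem ckPath_ok : paths.all ckPath = true := by decide +kernel

theorem ckSigns_ok : ckSigns = true := by decide +kernel

theorem ckNz_ok : ckNz = true := by decide +kernel

theorem ckSep_ok : E8.pk.allRoots.all ckSep = true := by decide +kernel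

theorem ckDown_ok : ckDown inPar inPar lowS = true := by decide +kernel

theorem low_nonempty : ((lowS[4]?).map fun p => !p.1.isEmpty).getD false = true := by decide +kernel

end Cfsg.Agent.IterCore
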