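/-
A subgroup normalised by the positive root elements all of whose elements have a nearly diagonal
shape is trivial.
-/
import Cfsg.Agent.Lib.IterCore.Basic

set_option autoImplicit false

namespace Cfsg.Agent.IterCore

open Cfsg.Lie Cfsg.Agent.Chev
open scoped Matrix

variable {D : ChevalleyDatum} {P : Pk} {F : Type*} [Field F]

/-- Off the diagonal, entries occur only in the coroot block, or from a negative root to a positive
root that are distinguished by the Cartan integers. -/
def Shape (P : Pk) (M : Matrix D.Idx D.Idx F) : Prop :=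
  ∀ row col, row ≠ col → M row col ≠ 0 → (P.nroots ≤ code P row ∧ P.nroots ≤ code P col) ∨
    (P.isPos (code P row) = true ∧ code P col < P.nroots ∧ P.isPos (code P col) = false ∧
      ∃ i < P.rank, (P.A i (code P col) : F) ≠ (P.A i (code P row) : F))

variable (h : Ok D P)
include h

/-- Every element of the group respects the bracket. -/
theorem autP_group {g : GL D.Idx F} (hg : g ∈ D.group F) : AutP D P (g : Matrix D.Idx D.Idx F) := by
  let S : Subgroup (GL D.Idx F) :=
    { carrier := {g | AutP D P (g : Matrix D.Idx D.Idx F)}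
      mul_mem' := fun {a b} ha hb => by
        show AutP D P _
        rw [Units.val_mul]; exact autP_mul ha hb
      one_mem' := by show AutP D P _; rw [Units.val_one]; exact autP_one
      inv_mem' := fun {a} ha => by
        intro w
        have e := ha (((a⁻¹ : GL D.Idx F) : Matrix D.Idx D.Idx F) *ᵥ w)
        rw [Matrix.mulVec_mulVec, Units.mul_inv, Matrix.one_mulVec] at e
        calc ((a⁻¹ : GL D.Idx F) : Matrix D.Idx D.Idx F) * adR D P w
            = ((a⁻¹ : GL D.Idx F) : Matrix D.Idx D.Idx F) * (adR D P w * a) * ((a⁻¹ : GL D.Idx F) : Matrix D.Idx D.Idx F) := by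
              rw [mul_assoc, mul_assoc, Units.mul_inv, mul_one]
          _ = _ := by rw [← e, ← mul_assoc, Units.inv_mul, one_mul] }
  exact h.group_le (S := S) (fun r hr t => by
    show AutP D P _
    rw [h.coe_xG' hr]; exact h.X_aut hr t) hg

theorem root_of_code {x : D.Idx} {r : ℕ} (hr : r < P.nroots) (e : code P x = r) : x = h.rootIdx r hr :=
  h.code_inj e

theorem h_of_code {x : D.Idx} (e : P.nroots ≤ code P x) :
    ∃ i, ∃ hi : i < P.rank, x = h.hIdx i hi := by
  have := h.code_lt_dim x
  refine ⟨code P x - P.nroots, by omega, h.code_inj ?_⟩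
  show code P x = P.nroots + (code P x - P.nroots)
  omega

theorem X_h_h (r : ℕ) (hr : r < P.nroots) (t : F) {i : ℕ} (hi : i < P.rank) {x : D.Idx}
    (hx : P.nroots ≤ code P x) :
    X D P r t x (h.hIdx i hi) = if x = h.hIdx i hi then 1 else 0 := by
  split_ifs with e
  · refine (h.X_entry hr t _ _).1 e fun k hk => ?_
    by_contra hz
    rcases h.colL_entry hk hr hz with ⟨-, h2⟩ | ⟨h1, -⟩ | ⟨h1, -⟩
    · omega
    · have := Ok.ng_lt (P := P) hr; rw [show code P (h.hIdx i hi) = P.nroots + i from rfl] at h1; omega
    · rw [show code P (h.hIdx i hi) = P.nroots + i from rfl] at h1; omega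
  · by_contra hne
    obtain ⟨k, hk, hz⟩ := (h.X_entry hr t _ _).2 e hne
    rcases h.colL_entry hk hr hz with ⟨-, h2⟩ | ⟨h1, -⟩ | ⟨h1, -⟩
    · omega
    · have := Ok.ng_lt (P := P) hr; rw [show code P (h.hIdx i hi) = P.nroots + i from rfl] at h1; omega
    · rw [show code P (h.hIdx i hi) = P.nroots + i from rfl] at h1; omega

theorem X_root_h (r : ℕ) (hr : r < P.nroots) {i : ℕ} (hi : i < P.rank) :
    X D P r (1 : F) (h.rootIdx r hr) (h.hIdx i hi) = -(P.A i r : F) := by
  have hcr : code P (h.rootIdx r hr) = r := rfl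
  have hci : code P (h.hIdx i hi) = P.nroots + i := rfl
  rw [Ok.X_apply, hcr, hci, Finset.sum_eq_single 1]
  · rw [Ok.colL_h one_ne_zero (Nat.le_add_right _ _), if_pos rfl, Nat.add_sub_cancel_left]
    simp [cf_cons, cf_nil]
  · intro k _ hk
    rcases Nat.eq_zero_or_pos k with rfl | hk0
    · have := congrFun (congrFun (h.Ek_zero (r := r)) (h.rootIdx r hr)) (h.hIdx i hi)
      rw [Ek, opM_apply, hcr, hci] at this
      rw [this, Matrix.one_apply_ne fun e => by have := congrArg (code P) e; rw [hcr, hci] at this; omega]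
      simp
    · rw [Ok.colL_h (by omega) (Nat.le_add_right _ _), if_neg hk]; simp [cf_nil]
  · simp

/-- `X` fixes the diagonal. -/
theorem X_diag {r : ℕ} (hr : r < P.nroots) (t : F) (s : D.Idx) : X D P r t s s = 1 := by
  cases hp : P.isPos r
  · exact ((h.X_tri hr t).2 hp s s).1 rfl
  · exact ((h.X_tri hr t).1 hp s s).1 rfl

/-- A positive root element does not map positive roots to anything but positive roots. -/
theorem X_pos_pos {r : ℕ} (hp : P.isPos r = true) (t : F) {row col : D.Idx}
    (hc : P.isPos (code P col) = true) (hne : X D P r t row col ≠ 0) : P.isPos (code P row) = true := by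
  have hr := (P.isPos_iff.1 hp).2
  rcases eq_or_ne row col with rfl | e
  · exact hc
  obtain ⟨k, hk, hz⟩ := (h.X_entry hr t _ _).2 e hne
  have hcn := (P.isPos_iff.1 hc).2
  rcases h.colL_entry hk hr hz with ⟨h1, -⟩ | ⟨h1, -⟩ | ⟨h1, -, -, h4, h5⟩
  · omega
  · rw [h1, h.ng_pos_iff hr, hp] at hc; simp at hc
  · rw [h5]; exact (((h.order_spec hr h1 h4).1 hp).2.2 hc).2

/-- The matrix sums reduce to the admissible entries. -/
theorem shape_bot {H : Subgroup (GL D.Idx F)} (hH : H ≤ D.group F)
    (hnorm : ∀ r, P.isPos r = true → ∀ g ∈ H, h.xG r (1 : F) * g * (h.xG r 1)⁻¹ ∈ H)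
    (hshape : ∀ g ∈ H, Shape P (g : Matrix D.Idx D.Idx F))
    (hAr : ∀ r < P.nroots, ∃ i < P.rank, (P.A i r : F) ≠ 0)
    (hconn : ∀ f : ℕ → F, (∀ i < P.rank, ∀ j < P.rank, (P.A i (P.sim j) : F) ≠ 0 → f i = f j) →
      ∀ i < P.rank, f i = f 0) (h2F : (2 : F) ≠ 0) : H = ⊥ := by
  classical
  rw [eq_bot_iff]
  intro g hg
  rw [Subgroup.mem_bot]
  -- diagonal entries are invertible
  have hdne : ∀ a ∈ H, ∀ s : D.Idx, code P s < P.nroots → (a : Matrix D.Idx D.Idx F) s s ≠ 0 := by
    intro a ha s hs e
    have h1 := congrFun (congrFun (show (a : Matrix D.Idx D.Idx F) * ((a⁻¹ : GL D.Idx F) : Matrix D.Idx D.Idx F) = 1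
      from Units.mul_inv a) s) s
    rw [Matrix.mul_apply, Finset.sum_eq_single s, e, zero_mul, Matrix.one_apply_eq] at h1
    · exact zero_ne_one h1
    · intro y _ hy
      by_contra hne
      rcases hshape a ha s y (Ne.symm hy) (left_ne_zero_of_mul hne) with ⟨q, -⟩ | ⟨q, -, -, -⟩
      · omega
      rcases hshape _ (inv_mem ha) y s hy (right_ne_zero_of_mul hne) with ⟨-, q'⟩ | ⟨-, -, q', -⟩
      · omega
      · rw [q] at q'; simp at q'
    · simp
  -- the data of `g`
  set M := (g : Matrix D.Idx D.Idx F) with hM
  let gr : (r : ℕ) → r < P.nroots → F := fun r hr => M (h.rootIdx r hr) (h.rootIdx r hr)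
  let Gh : ℕ → ℕ → F := fun i j =>
    if hij : i < P.rank ∧ j < P.rank then M (h.hIdx i hij.1) (h.hIdx j hij.2) else 0
  have key : ∀ r, P.isPos r = true → ∀ hr : r < P.nroots,
      (∀ i, ∀ hi : i < P.rank, gr r hr * (P.A i r : F) =
        ∑ y : Fin D.rank, (P.A y.val r : F) * M (Sum.inl y) (h.hIdx i hi)) ∧
      (∀ j, ∀ hj : j < P.rank, ∑ y : Fin D.rank, M (h.hIdx j hj) (Sum.inl y) * (P.co r y.val : F) =
        (P.co r j : F) * gr (P.ng r) (Ok.ng_lt hr)) := by
    intro r hp hr
    set x := h.xG (F := F) r 1 with hx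
    set c := g * (x * g⁻¹ * x⁻¹) with hc
    have hcH : c ∈ H := mul_mem hg (hnorm r hp _ (inv_mem hg))
    have hxv : (x : Matrix D.Idx D.Idx F) = X D P r (1 : F) := h.coe_xG' hr 1
    set C := (c : Matrix D.Idx D.Idx F) with hC
    have hmain : M * X D P r (1 : F) = C * X D P r (1 : F) * M := by
      rw [hM, hC, ← hxv, ← Units.val_mul, ← Units.val_mul, ← Units.val_mul, hc]
      congr 1; group
    have hsh : Shape P M := hshape g hg
    have hsc : Shape P C := hshape c hcH
    -- `c` is the identity on diagonal entries of roots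
    have hcd : ∀ s : D.Idx, code P s < P.nroots → C s s = 1 := by
      intro s hs
      have e := congrFun (congrFun hmain s) s
      rw [Matrix.mul_apply, Finset.sum_eq_single s, X_diag h hr, mul_one] at e
      · rw [Matrix.mul_apply, Finset.sum_eq_single s, Matrix.mul_apply, Finset.sum_eq_single s, X_diag h hr,
          mul_one] at e
        · exact (mul_eq_right₀ (hdne g hg s hs)).1 e.symm
        · intro z _ hz
          by_contra hne
          rcases hsc s z (Ne.symm hz) (left_ne_zero_of_mul hne) with ⟨q, -⟩ | ⟨q, -, q', -⟩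
          · omega
          · have := X_pos_pos h hp 1 q (right_ne_zero_of_mul hne)
            rw [q'] at this; simp at this
        · simp
        · intro y _ hy
          by_contra hne
          rcases hsh y s hy (right_ne_zero_of_mul hne) with ⟨-, q⟩ | ⟨qy, -, qs, -⟩
          · omega
          have h1 := left_ne_zero_of_mul hne
          rw [Matrix.mul_apply] at h1
          obtain ⟨z, -, hz⟩ := Finset.exists_ne_zero_of_sum_ne_zero h1
          have h2 := X_pos_pos h hp 1 qy (right_ne_zero_of_mul hz)
          rcases eq_or_ne s z with rfl | hsz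
          · rw [qs] at h2; simp at h2
          rcases hsc s z hsz (left_ne_zero_of_mul hz) with ⟨q, -⟩ | ⟨q, -⟩
          · omega
          · rw [qs] at q; simp at q
        · simp
      · intro y _ hy
        by_contra hne
        rcases hsh s y (Ne.symm hy) (left_ne_zero_of_mul hne) with ⟨q, -⟩ | ⟨q, -, q', -⟩
        · omega
        · have := X_pos_pos h hp 1 q (right_ne_zero_of_mul hne)
          rw [q'] at this; simp at this
      · simp
    have hblock : ∀ {N : Matrix D.Idx D.Idx F}, Shape P N → ∀ {a b : D.Idx}, P.nroots ≤ code P a →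
        code P b < P.nroots → N a b = 0 ∧ N b a = 0 := by
      intro N hN a b ha hb
      have hab : a ≠ b := fun e => by rw [e] at ha; omega
      constructor <;> by_contra hne
      · rcases hN a b hab hne with ⟨-, q⟩ | ⟨q, -⟩
        · omega
        · have := (P.isPos_iff.1 q).2; omega
      · rcases hN b a (Ne.symm hab) hne with ⟨q, -⟩ | ⟨-, q, -⟩ <;> omega
    -- entries of `C * X` in a row of a coroot
    have hCh : ∀ a b : D.Idx, P.nroots ≤ code P a → P.nroots ≤ code P b → C a b = if a = b then 1 else 0 := by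
      have step : ∀ a b : D.Idx, P.nroots ≤ code P a → P.nroots ≤ code P b →
          M a b = (C * M) a b := by
        intro a b ha hb
        obtain ⟨i, hi, rfl⟩ := h_of_code h hb
        have e := congrFun (congrFun hmain a) (h.hIdx i hi)
        rw [Matrix.mul_apply, Finset.sum_eq_single (h.hIdx i hi), X_h_h h r hr 1 hi hb, if_pos rfl, mul_one] at e
        · rw [e, Matrix.mul_apply, Matrix.mul_apply]
          refine Finset.sum_congr rfl fun y _ => ?_
          by_cases hy : code P y < P.nroots
          · rw [(hblock hsh hb hy).2, mul_zero, mul_zero]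
          congr 1
          obtain ⟨l, hl, rfl⟩ := h_of_code h (not_lt.1 hy)
          rw [Matrix.mul_apply, Finset.sum_eq_single (h.hIdx l hl), X_h_h h r hr 1 hl (not_lt.1 hy),
            if_pos rfl, mul_one]
          · intro z _ hz
            by_contra hne
            by_cases hzr : code P z < P.nroots
            · exact left_ne_zero_of_mul hne (hblock hsc ha hzr).1
            · exact right_ne_zero_of_mul hne (by rw [X_h_h h r hr 1 hl (not_lt.1 hzr), if_neg hz])
          · simp
        · intro y _ hy
          by_contra hne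
          by_cases hyr : code P y < P.nroots
          · exact left_ne_zero_of_mul hne (hblock hsh ha hyr).1
          · exact right_ne_zero_of_mul hne (by rw [X_h_h h r hr 1 hi (not_lt.1 hyr), if_neg hy])
        · simp
      intro a b ha hb
      have e : (C * M * ((g⁻¹ : GL D.Idx F) : Matrix D.Idx D.Idx F)) a b =
          (M * ((g⁻¹ : GL D.Idx F) : Matrix D.Idx D.Idx F)) a b := by
        rw [Matrix.mul_apply, Matrix.mul_apply (M := M)]
        refine Finset.sum_congr rfl fun y _ => ?_
        by_cases hy : code P y < P.nroots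
        · rw [(hblock (hshape _ (inv_mem hg)) hb hy).2, mul_zero, mul_zero]
        · rw [step a y ha (not_lt.1 hy)]
      rwa [mul_assoc, hM, Units.mul_inv, mul_one, Matrix.one_apply] at e
    have hCrow : ∀ a y : D.Idx, P.nroots ≤ code P a → (C * X D P r (1 : F)) a y = X D P r (1 : F) a y := by
      intro a y ha
      rw [Matrix.mul_apply, Finset.sum_eq_single a, hCh a a ha ha, if_pos rfl, one_mul]
      · intro z _ hz
        by_cases hzr : code P z < P.nroots
        · rw [(hblock hsc ha hzr).1, zero_mul]
        · rw [hCh a z ha (not_lt.1 hzr), if_neg (Ne.symm hz), zero_mul]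
      · simp
    have hri : ∀ i, ∀ hi : i < P.rank, gr r hr * (P.A i r : F) =
        ∑ y : Fin D.rank, (P.A y.val r : F) * M (Sum.inl y) (h.hIdx i hi) := by
      intro i hi
      have e := congrFun (congrFun hmain (h.rootIdx r hr)) (h.hIdx i hi)
      have hcr : code P (h.rootIdx r hr) = r := rfl
      have hci : P.nroots ≤ code P (h.hIdx i hi) := Nat.le_add_right _ _
      rw [Matrix.mul_apply, Finset.sum_eq_single (h.rootIdx r hr), X_root_h h r hr hi] at e
      · rw [Matrix.mul_apply, Fintype.sum_sum_type, Finset.sum_eq_zero (s := (Finset.univ : Finset (Fin D.nroots)))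
          fun s _ => by
            rw [(hblock hsh hci (show code P (Sum.inr s : D.Idx) < P.nroots from h.slt s)).2, mul_zero],
          add_zero] at e
        have hrow : ∀ y : Fin D.rank, (C * X D P r (1 : F)) (h.rootIdx r hr) (Sum.inl y) = -(P.A y.val r : F) := by
          intro y
          have hy : y.val < P.rank := h.rank ▸ y.isLt
          have hyc : P.nroots ≤ code P (Sum.inl y : D.Idx) := Nat.le_add_right _ _
          rw [show (Sum.inl y : D.Idx) = h.hIdx y.val hy from rfl, Matrix.mul_apply,
            Finset.sum_eq_single (h.rootIdx r hr), hcd _ (show code P (h.rootIdx (D := D) r hr) < P.nroots from hr), one_mul, X_root_h h r hr hy]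
          · intro z _ hz
            by_contra hne
            by_cases hzr : code P z < P.nroots
            · have hne' := right_ne_zero_of_mul hne
              obtain ⟨k, hk, hzz⟩ := (h.X_entry hr 1 z _).2 (fun e' => by rw [e'] at hzr; exact absurd hzr (not_lt.2 hyc)) hne'
              rcases h.colL_entry hk hr hzz with ⟨-, h2⟩ | ⟨h1, -⟩ | ⟨h1, -⟩
              · exact hz (root_of_code h hr h2)
              · rw [show code P (h.hIdx y.val hy) = P.nroots + y.val from rfl] at h1
                have := Ok.ng_lt (P := P) hr; omega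
              · rw [show code P (h.hIdx y.val hy) = P.nroots + y.val from rfl] at h1; omega
            · exact left_ne_zero_of_mul hne (hblock hsc (not_lt.1 hzr) (show code P (h.rootIdx (D := D) r hr) < P.nroots from hr)).2
          · simp
        simp only [hrow, neg_mul, Finset.sum_neg_distrib, mul_neg, neg_inj] at e
        exact e
      · intro y _ hy
        by_contra hne
        by_cases hyr : code P y < P.nroots
        · obtain ⟨k, hk, hzz⟩ := (h.X_entry hr 1 y _).2 (fun e' => by rw [e'] at hyr; exact absurd hyr (not_lt.2 hci))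
            (right_ne_zero_of_mul hne)
          rcases h.colL_entry hk hr hzz with ⟨-, h2⟩ | ⟨h1, -⟩ | ⟨h1, -⟩
          · exact hy (root_of_code h hr h2)
          · rw [show code P (h.hIdx i hi) = P.nroots + i from rfl] at h1
            have := Ok.ng_lt (P := P) hr; omega
          · rw [show code P (h.hIdx i hi) = P.nroots + i from rfl] at h1; omega
        · exact left_ne_zero_of_mul hne (hblock hsh (not_lt.1 hyr) (show code P (h.rootIdx (D := D) r hr) < P.nroots from hr)).2
      · simp
    refine ⟨hri, fun j hj => ?_⟩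
    have hn := Ok.ng_lt (P := P) hr
    have hja : P.nroots ≤ code P (h.hIdx j hj) := Nat.le_add_right _ _
    have e := congrFun (congrFun hmain (h.hIdx j hj)) (h.rootIdx (P.ng r) hn)
    rw [Matrix.mul_apply, Fintype.sum_sum_type, Finset.sum_eq_zero (s := (Finset.univ : Finset (Fin D.nroots)))
      fun s _ => by
        rw [(hblock hsh hja (show code P (Sum.inr s : D.Idx) < P.nroots from h.slt s)).1, zero_mul],
      add_zero, Matrix.mul_apply, Finset.sum_eq_single (h.rootIdx (P.ng r) hn), hCrow _ _ hja, h.X_coroot hr,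
      one_mul] at e
    · rw [← e]
      refine Finset.sum_congr rfl fun y _ => ?_
      rw [show (Sum.inl y : D.Idx) = h.hIdx y.val (h.rank ▸ y.isLt) from rfl, h.X_coroot hr, one_mul]
    · intro y _ hy
      by_contra hne
      have hneg : P.isPos (P.ng r) = false := by
        rw [← Bool.not_eq_true, h.ng_pos_iff hr, hp]; simp
      rcases hsh y _ hy (right_ne_zero_of_mul hne) with ⟨-, q⟩ | ⟨qy, -⟩
      · exact absurd hn (not_lt.2 q)
      have h1 := left_ne_zero_of_mul hne
      rw [hCrow _ _ hja] at h1
      have h2 := X_pos_pos h hp 1 qy h1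
      have := (P.isPos_iff.1 h2).2
      omega
    · simp
  -- the block of coroots is scalar
  have hsimk : ∀ k, ∀ hk : k < P.rank, ∀ j, ∀ hj : j < P.rank,
      M (h.hIdx j hj) (h.hIdx k hk) =
        if j = k then gr (P.ng (P.sim k)) (Ok.ng_lt (h.sim_lt hk)) else 0 := by
    intro k hk j hj
    have e := (key _ (h.sim_pos hk) (h.sim_lt hk)).2 j hj
    rw [Finset.sum_eq_single (⟨k, h.rank ▸ hk⟩ : Fin D.rank), h.co_sim hk hj] at e
    · rw [show M (h.hIdx j hj) (h.hIdx k hk) = M (h.hIdx j hj) (Sum.inl ⟨k, h.rank ▸ hk⟩) from rfl]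
      rw [h.co_sim hk hk, if_pos rfl, Int.cast_one, mul_one] at e
      rw [e]
      by_cases e' : j = k
      · rw [if_pos e', if_pos e'.symm, Int.cast_one, one_mul]
      · rw [if_neg e', if_neg (Ne.symm e'), Int.cast_zero, zero_mul]
    · intro y _ hy
      have hyk : k ≠ y.val := fun e' => hy (Fin.ext e'.symm)
      rw [h.co_sim hk (h.rank ▸ y.isLt), if_neg hyk, Int.cast_zero, mul_zero]
    · simp
  let f : ℕ → F := fun k => if hk : k < P.rank then M (h.hIdx k hk) (h.hIdx k hk) else 0
  have hf : ∀ k, ∀ hk : k < P.rank, f k = M (h.hIdx k hk) (h.hIdx k hk) := fun k hk => dif_pos hk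
  have hdiag : ∀ j, ∀ hj : j < P.rank, ∀ k, ∀ hk : k < P.rank,
      M (h.hIdx j hj) (h.hIdx k hk) = if j = k then f k else 0 := by
    intro j hj k hk
    split_ifs with e
    · subst e; rw [hf j hj]
    · rw [hsimk k hk j hj, if_neg e]
  have hgA : ∀ r, P.isPos r = true → ∀ hr : r < P.nroots, ∀ i, ∀ hi : i < P.rank, (P.A i r : F) ≠ 0 →
      gr r hr = f i := by
    intro r hp hr i hi hA
    have e := (key r hp hr).1 i hi
    rw [Finset.sum_eq_single (⟨i, h.rank ▸ hi⟩ : Fin D.rank)] at e
    · rw [show (Sum.inl ⟨i, h.rank ▸ hi⟩ : D.Idx) = h.hIdx i hi from rfl, ← hf i hi,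
        mul_comm (P.A i r : F)] at e
      exact mul_right_cancel₀ hA e
    · intro y _ hy
      rw [show (Sum.inl y : D.Idx) = h.hIdx y.val (h.rank ▸ y.isLt) from rfl, hdiag _ _ i hi,
        if_neg fun e' => hy (Fin.ext e'), mul_zero]
    · simp
  have hfconst : ∀ i < P.rank, f i = f 0 := by
    refine hconn f fun i hi j hj hA => ?_
    by_cases h2 : (P.A j (P.sim j) : F) = 0
    · -- the diagonal Cartan integer does not vanish by `hAr` and the value two
      exfalso
      rw [h.A_self hj] at h2
      exact h2F (by simpa using h2)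
    rw [← hgA _ (h.sim_pos hj) (h.sim_lt hj) i hi hA, hgA _ (h.sim_pos hj) (h.sim_lt hj) j hj h2]
  have h0 : 0 < P.rank := by have := h.two_le_rank; omega
  set c := f 0 with hc0
  have hgr : ∀ r, ∀ hr : r < P.nroots, gr r hr = c := by
    intro r hr
    cases hp : P.isPos r
    · have hp' := (h.ng_pos_iff hr).2 hp
      obtain ⟨j, hj, hco⟩ := h.co_cast_ne (F := F) (Ok.ng_lt hr)
      have e := (key _ hp' (Ok.ng_lt hr)).2 j hj
      rw [Finset.sum_eq_single (⟨j, h.rank ▸ hj⟩ : Fin D.rank)] at e
      · rw [show (Sum.inl ⟨j, h.rank ▸ hj⟩ : D.Idx) = h.hIdx j hj from rfl, ← hf j hj, hfconst j hj,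
          mul_comm c] at e
        have e2 := mul_left_cancel₀ hco e
        simp only [Ok.ng_ng hr] at e2
        exact e2.symm
      · intro y _ hy
        rw [show (Sum.inl y : D.Idx) = h.hIdx y.val (h.rank ▸ y.isLt) from rfl, hdiag j hj,
          if_neg fun e' => hy (Fin.ext e'.symm), zero_mul]
      · simp
    · obtain ⟨i, hi, hA⟩ := hAr r hr
      rw [hgA r hp hr i hi hA, hfconst i hi]
  -- respecting the bracket
  have haut : ∀ i, ∀ hi : i < P.rank, ∀ a b : D.Idx,
      M a b * (if code P b < P.nroots then (P.A i (code P b) : F) else 0) =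
        c * (if code P a < P.nroots then (P.A i (code P a) : F) else 0) * M a b := by
    intro i hi a b
    have hcol : M *ᵥ Pi.single (h.hIdx i hi) (1 : F) = c • Pi.single (h.hIdx i hi) (1 : F) := by
      ext y
      rw [Matrix.mulVec_single_one, Matrix.col_apply, Pi.smul_apply, smul_eq_mul]
      by_cases hy : code P y < P.nroots
      · have hyi : y ≠ h.hIdx i hi := fun e => by
          rw [e, show code P (h.hIdx i hi) = P.nroots + i from rfl] at hy; omega
        rw [Pi.single_eq_of_ne hyi, mul_zero]
        by_contra hne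
        rcases hshape g hg y _ hyi hne with ⟨q, -⟩ | ⟨-, q, -⟩
        · omega
        · rw [show code P (h.hIdx i hi) = P.nroots + i from rfl] at q; omega
      · obtain ⟨j, hj, rfl⟩ := h_of_code h (not_lt.1 hy)
        rw [hdiag j hj i hi]
        by_cases e : j = i
        · subst e; rw [if_pos rfl, Pi.single_eq_same, mul_one, hfconst j hj]
        · rw [if_neg e, Pi.single_eq_of_ne fun e' => e ?_, mul_zero]
          have := congrArg (code P) e'
          rw [show code P (h.hIdx j hj) = P.nroots + j from rfl,
            show code P (h.hIdx i hi) = P.nroots + i from rfl] at this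
          omega
    have hAD : cM D F (AD D P (h.hIdx i hi)) =
        Matrix.diagonal fun y : D.Idx => if code P y < P.nroots then (P.A i (code P y) : F) else 0 := by
      ext u v
      rw [cM_apply, AD, opM_apply, show code P (h.hIdx i hi) = P.nroots + i from rfl,
        Ok.brk_h (Nat.le_add_right _ _), Nat.add_sub_cancel_left]
      rcases eq_or_ne u v with rfl | e
      · rw [Matrix.diagonal_apply_eq]
        split_ifs <;> simp [cf_cons, cf_nil]
      · rw [Matrix.diagonal_apply_ne _ e]
        have : code P v ≠ code P u := fun e' => e (h.code_inj e').symm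
        split_ifs <;> simp [cf_cons, cf_nil, this]
    have e := congrFun (congrFun (autP_group h (hH hg) (Pi.single (h.hIdx i hi) (1 : F))) a) b
    rw [← hM, hcol, adR_smul, adR_single, hAD, Matrix.smul_mul, Matrix.mul_diagonal, Matrix.smul_apply,
      Matrix.diagonal_mul, smul_eq_mul, ← mul_assoc] at e
    exact e
  have hc1 : c = 1 := by
    obtain ⟨i, hi, hA⟩ := hAr (P.sim 0) (h.sim_lt h0)
    have e := haut i hi (h.rootIdx _ (h.sim_lt h0)) (h.rootIdx _ (h.sim_lt h0))
    have hcne : c ≠ 0 := by
      rw [← hgr _ (h.sim_lt h0)]; exact hdne g hg _ (h.sim_lt h0)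
    rw [show M (h.rootIdx _ (h.sim_lt h0)) (h.rootIdx _ (h.sim_lt h0)) = c from hgr _ (h.sim_lt h0),
      if_pos (show code P (h.rootIdx _ (h.sim_lt h0)) < P.nroots from h.sim_lt h0)] at e
    have : c * (c * (P.A i (code P (h.rootIdx (D := D) _ (h.sim_lt h0))) : F)) =
        1 * (c * (P.A i (code P (h.rootIdx (D := D) _ (h.sim_lt h0))) : F)) := by linear_combination -e
    exact mul_right_cancel₀ (mul_ne_zero hcne hA) this
  apply Units.ext
  ext a b
  rw [Units.val_one, ← hM]
  rcases eq_or_ne a b with rfl | e
  · rw [Matrix.one_apply_eq]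
    by_cases ha : code P a < P.nroots
    · rw [root_of_code h ha (rfl : code P a = code P a)]
      exact (hgr _ ha).trans hc1
    · obtain ⟨j, hj, rfl⟩ := h_of_code h (not_lt.1 ha)
      rw [← hf j hj, hfconst j hj, hc1]
  · rw [Matrix.one_apply_ne e]
    by_contra hne
    rcases hshape g hg a b e hne with ⟨qa, qb⟩ | ⟨qa, qb, -, i, hi, hA⟩
    · obtain ⟨j, hj, rfl⟩ := h_of_code h qa
      obtain ⟨k, hk, rfl⟩ := h_of_code h qb
      rw [hdiag j hj k hk, if_neg fun e' => e (by subst e'; rfl)] at hne
      exact hne rfl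
    · have e' := haut i hi a b
      rw [if_pos qb, if_pos (P.isPos_iff.1 qa).2, hc1, one_mul, mul_comm] at e'
      exact hA (mul_right_cancel₀ hne e')

end Cfsg.Agent.IterCore
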