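/-
The descending sequences of relative cores attached to a maximal parabolic subgroup and a conjugate.
-/
import Cfsg.Agent.Lib.IterCore.Basic

set_option autoImplicit false

namespace Cfsg.Agent.IterCore

open Cfsg.Lie Cfsg.Agent.Chev
open scoped Matrix

section core

variable {G : Type*} [Group G]

/-- The core in `M` of `X`. -/
noncomputable def coreIn (M X : Subgroup G) : Subgroup G := (X.subgroupOf M).normalCore.map M.subtype

theorem mem_coreIn {M X : Subgroup G} {x : G} :
    x ∈ coreIn M X ↔ x ∈ M ∧ ∀ m ∈ M, m * x * m⁻¹ ∈ X := by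
  constructor
  · rintro ⟨y, hy, rfl⟩
    exact ⟨y.2, fun m hm => hy ⟨m, hm⟩⟩
  · rintro ⟨hx, hall⟩
    exact ⟨⟨x, hx⟩, fun b => hall b b.2, rfl⟩

theorem coreIn_conj {M X : Subgroup G} {x m : G} (hx : x ∈ coreIn M X) (hm : m ∈ M) :
    m * x * m⁻¹ ∈ coreIn M X := by
  rw [mem_coreIn] at hx ⊢
  refine ⟨mul_mem (mul_mem hm hx.1) (inv_mem hm), fun m' hm' => ?_⟩
  have := hx.2 (m' * m) (mul_mem hm' hm)
  rwa [show m' * m * x * (m' * m)⁻¹ = m' * (m * x * m⁻¹) * m'⁻¹ by group] at this

theorem coreIn_le {M X : Subgroup G} {x : G} (hx : x ∈ coreIn M X) : x ∈ X := by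
  simpa using (mem_coreIn.1 hx).2 1 (one_mem _)

/-- The two sequences. -/
noncomputable def cores (M₁ M₂ : Subgroup G) : ℕ → Subgroup G × Subgroup G
  | 0 => (M₁, M₂)
  | i + 1 => (coreIn M₁ ((cores M₁ M₂ i).1 ⊓ (cores M₁ M₂ i).2),
      coreIn M₂ ((cores M₁ M₂ i).1 ⊓ (cores M₁ M₂ i).2))

end core

variable {D : ChevalleyDatum} {P : Pk} {F : Type*} [Field F]

/-- The parabolic subgroup omitting the node `k`, inside the group. -/
def maxPar (D : ChevalleyDatum) (F : Type*) [Field F] (k : ℕ) : Subgroup (D.group F) :=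
  (D.parabolicSubgroup F {j : ℕ | j ≠ k}).subgroupOf (D.group F)

variable (h : Ok D P)
include h

/-- A word as an element of the group. -/
def wG (l : List ℕ) (hl : WordOk P l) : D.group F :=
  ⟨h.nW l, h.monomial_le_group (h.nW_mem l hl)⟩

theorem wG_mem_maxPar {k : ℕ} {l : List ℕ} (hl : WordOk P l) (hk : ∀ i ∈ l, i ≠ k) :
    wG (F := F) h l hl ∈ maxPar D F k := by
  show h.nW l ∈ D.parabolicSubgroup F _
  induction l with
  | nil => rw [h.nW_nil]; exact one_mem _
  | cons i l ih =>
    rw [h.nW_cons]
    exact mul_mem (h.nG_mem_parabolic (show i ∈ {j : ℕ | j ≠ k} from hk i List.mem_cons_self) hl.head)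
      (ih hl.tail fun x hx => hk x (List.mem_cons_of_mem _ hx))

/-- The side of the top of a path. -/
def side : Bool → List (Bool × List ℕ) → Bool
  | s₀, [] => s₀
  | _, (s, _) :: _ => s

/-- The word of a path. -/
def pword (k : ℕ) (s₀ : Bool) : List (Bool × List ℕ) → List ℕ
  | [] => bif s₀ then [k] else []
  | (s, u) :: rest => pword k s₀ rest ++ (bif s then [k] ++ u ++ [k] else u)

omit h in
/-- One of the two terms. -/
def pick {G : Type*} [Group G] (X : Subgroup G × Subgroup G) (b : Bool) : Subgroup G :=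
  bif b then X.2 else X.1

theorem pword_ok {k : ℕ} (hk : k < P.rank) (s₀ : Bool) : ∀ steps : List (Bool × List ℕ),
    (∀ s ∈ steps, ∀ i ∈ s.2, i < P.rank ∧ i ≠ k) → WordOk P (pword k s₀ steps)
  | [], _ => by
    cases s₀ <;> simp [pword, WordOk, hk]
  | (s, u) :: rest, hs => by
    intro x hx
    simp only [pword, List.mem_append] at hx
    rcases hx with hx | hx
    · exact pword_ok hk s₀ rest (fun t ht => hs t (List.mem_cons_of_mem _ ht)) x hx
    · have hu := hs (s, u) List.mem_cons_self
      cases s <;> simp at hx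
      · exact (hu x hx).1
      · rcases hx with rfl | hx | rfl
        · exact hk
        · exact (hu x hx).1
        · exact hk

/-- The filtrations respected by the terms of the two sequences. -/
theorem upper {k : ℕ} (hk : k < P.rank) (s₀ : Bool) : ∀ steps : List (Bool × List ℕ),
    (∀ s ∈ steps, ∀ i ∈ s.2, i < P.rank ∧ i ≠ k) →
    ∀ x ∈ pick (cores (maxPar D F k) ((maxPar D F k).map (MulAut.conj (wG h [k] (wordOk_single hk))).toMonoidHom)
      steps.length) (side s₀ steps),
      Filt P (lvl P k (pword k s₀ steps)) ((x : GL D.Idx F) : Matrix D.Idx D.Idx F) := by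
  intro steps
  induction steps with
  | nil =>
    intro _ x hx
    cases s₀
    · simp only [pick, side, cond_false, cores, pword] at hx ⊢
      exact filt_parabolic h hk hx
    · simp only [pick, side, cond_true, cores, pword] at hx ⊢
      obtain ⟨m, hm, rfl⟩ := Subgroup.mem_map.1 hx
      have hn := perm_nW (F := F) h [k] (wordOk_single hk)
      have hf : Filt P (fun s => P.rv s k) (((m : GL D.Idx F)) : Matrix D.Idx D.Idx F) :=
        filt_parabolic h hk hm
      show Filt P (lvl P k [k]) (((h.nW [k] * (m : GL D.Idx F) * (h.nW [k])⁻¹ : GL D.Idx F)) : Matrix D.Idx D.Idx F)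
      refine Filt.conj (φ := fun s => P.rv s k) (p := (h.nW [k])⁻¹) hn.2 (by rw [inv_inv]; exact hn.1) ?_ (fun r _ => rfl) fun r hr => ?_
      · rw [show (h.nW [k])⁻¹ * (h.nW [k] * (m : GL D.Idx F) * (h.nW [k])⁻¹) * (h.nW [k])⁻¹⁻¹ = (m : GL D.Idx F)
          by group]
        exact hf
      · show P.rv (P.w k (P.w k r)) k = P.rv r k
        rw [h.w_w hk hr]
  | cons st rest ih =>
    obtain ⟨s, u⟩ := st
    intro hs x hx
    have hrest : ∀ t ∈ rest, ∀ i ∈ t.2, i < P.rank ∧ i ≠ k := fun t ht => hs t (List.mem_cons_of_mem _ ht)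
    have hu := hs (s, u) List.mem_cons_self
    set l := bif s then [k] ++ u ++ [k] else u with hl
    have hlok : WordOk P l := by
      rw [hl]; cases s
      · exact fun i hi => (hu i hi).1
      · exact wordOk_append (wordOk_append (wordOk_single hk) fun i hi => (hu i hi).1) (wordOk_single hk)
    set n := wG (F := F) h [k] (wordOk_single hk) with hn
    set M₁ := maxPar D F k
    set M₂ := M₁.map (MulAut.conj n).toMonoidHom
    simp only [side, List.length_cons] at hx
    have hmem : wG (F := F) h l hlok * x * (wG h l hlok)⁻¹ ∈ pick (cores M₁ M₂ rest.length) (side s₀ rest) := by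
      have key : wG (F := F) h l hlok * x * (wG h l hlok)⁻¹ ∈
          (cores M₁ M₂ rest.length).1 ⊓ (cores M₁ M₂ rest.length).2 := by
        cases s
        · simp only [pick, cond_false, cores] at hx
          exact coreIn_le (coreIn_conj hx (wG_mem_maxPar h _ fun i hi => (hu i (by simpa [hl] using hi)).2))
        · simp only [pick, cond_true, cores] at hx
          refine coreIn_le (coreIn_conj hx (Subgroup.mem_map.2 ⟨wG h u (fun i hi => (hu i hi).1) * (n * n), ?_, ?_⟩))
          · refine mul_mem (wG_mem_maxPar h _ fun i hi => (hu i hi).2) ?_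
            show h.nW [k] * h.nW [k] ∈ D.parabolicSubgroup F _
            rw [show h.nW (F := F) [k] = h.nG k from List.prod_singleton]
            exact Subgroup.mem_sup_left (Subgroup.mem_sup_right (h.nG_sq hk))
          · apply Subtype.ext
            show h.nW [k] * (h.nW u * (h.nW [k] * h.nW [k])) * (h.nW [k])⁻¹ = h.nW l
            rw [hl]
            simp only [cond_true, h.nW_append]
            group
      cases side s₀ rest
      · exact (Subgroup.mem_inf.1 key).1
      · exact (Subgroup.mem_inf.1 key).2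
    have hf := ih hrest _ hmem
    have hp := perm_nW (F := F) h l hlok
    have hv := pword_ok h hk s₀ rest hrest
    refine Filt.conj hp.1 hp.2 hf (fun r _ => ?_) (fun r hr => ?_)
    · show P.rv (wl P (pword k s₀ rest ++ l) r) k = P.rv (wl P (pword k s₀ rest) (wl P l r)) k
      rw [wl_append]
    · show P.rv (wl P (pword k s₀ rest ++ l) (wl P l.reverse r)) k = P.rv (wl P (pword k s₀ rest) r) k
      rw [wl_append, h.wl_reverse' hlok hr]

/-- The functional of a word. -/
theorem lvl_eq {k : ℕ} (hk : k < P.rank) {v : List ℕ} (hv : WordOk P v) {r : ℕ} (hr : r < P.nroots) :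
    lvl P k v r = P.vval (v.foldl (fun c m => P.vstep m c) (P.vinit k)) r := by
  have key : ∀ l, WordOk P l → vOf P k l = l.foldr P.vstep (P.vinit k) := by
    intro l hl
    induction l with
    | nil => exact h.vOf_nil hk
    | cons m l ih => rw [h.vOf_cons hk hl.tail hl.head, ih hl.tail]; rfl
  have e := key v.reverse (wordOk_reverse hv)
  rw [List.foldr_reverse] at e
  rw [← e, h.vval_vOf hk (wordOk_reverse hv) hr, List.reverse_reverse]
  rfl

end Cfsg.Agent.IterCore
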