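/-
Root subgroups below the terms of the sequences; maximality of the parabolic subgroup.
-/
import Cfsg.Agent.Lib.IterCore.Tower

set_option autoImplicit false

namespace Cfsg.Agent.IterCore

open Cfsg.Lie Cfsg.Agent.Chev
open scoped Matrix

variable {D : ChevalleyDatum} {P : Pk} {F : Type*} [Field F]

variable (h : Ok D P)
include h

/-- A set of roots stable under the positive root elements and the reflections of a parabolic subgroup
gives a normalised subgroup. -/
theorem parabolic_normalizes (hC : P.ckComm = true) (J : Set ℕ) {S : ℕ → Prop}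
    (hlt : ∀ s, S s → s < P.nroots)
    (hpos : ∀ r, P.isPos r = true → ∀ s, S s → s = r ∨ (s ≠ P.ng r ∧ ∀ c ∈ P.cterms r s, S c.1))
    (hw : ∀ j ∈ J, j < P.rank → ∀ s, S s → S (P.w j s)) :
    D.parabolicSubgroup F J ≤ Subgroup.normalizer (h.genR (F := F) S : Set (GL D.Idx F)) := by
  have hd : ∀ c, h.genR (F := F) S ≤ (h.genR (F := F) S).comap (MulAut.conj (h.hHom c)).toMonoidHom :=
    fun c => h.genR_le fun r hr t => by
      show h.hHom c * h.xG r t * (h.hHom c)⁻¹ ∈ h.genR (F := F) S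
      rw [h.hHom_xG c (hlt r hr)]; exact h.xG_mem_genR hr _
  refine sup_le (sup_le (h.posUnipotent_le fun r hr t =>
    h.genR_normalizer hC hlt (P.isPos_iff.1 hr).2 (hpos r hr) t) ?_) ((Subgroup.closure_le _).2 ?_)
  · intro d hd'
    obtain ⟨c, rfl⟩ := h.mem_diagonal_iff.1 hd'
    refine Subgroup.mem_normalizer_iff.2 fun x => ⟨fun hx => hd c hx, fun hx => ?_⟩
    have h3 : h.hHom c⁻¹ * (h.hHom c * x * (h.hHom c)⁻¹) * (h.hHom c⁻¹)⁻¹ ∈ h.genR (F := F) S := hd c⁻¹ hx
    rw [map_inv, inv_inv] at h3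
    simpa [mul_assoc] using h3
  · rintro g ⟨j, hj, hjr, hg⟩
    have hjp : j < P.rank := h.rank ▸ hjr
    rw [h.simple_eq hjp, ← h.coe_nt (h.sim_lt hjp)] at hg
    rw [Units.ext hg]
    refine Subgroup.mem_normalizer_iff.2 fun x => ⟨fun hx => ?_, fun hx => ?_⟩
    · have : h.genR (F := F) S ≤ (h.genR (F := F) S).comap (MulAut.conj (h.nG j)).toMonoidHom :=
        h.genR_le fun r hr t => by
          show h.nG j * h.xG r t * (h.nG j)⁻¹ ∈ h.genR (F := F) S
          rw [h.nG_xG hjp (hlt r hr)]; exact h.xG_mem_genR (hw j hj hjp r hr) _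
      exact this hx
    · have : h.genR (F := F) S ≤ (h.genR (F := F) S).comap (MulAut.conj (h.nG j)⁻¹).toMonoidHom :=
        h.genR_le fun r hr t => by
          show (h.nG j)⁻¹ * h.xG r t * ((h.nG j)⁻¹)⁻¹ ∈ h.genR (F := F) S
          have hwr := hw j hj hjp r hr
          have e := h.nG_xG (F := F) hjp (hlt _ hwr) ((P.eta j (P.w j r) : F) * t)
          rw [h.w_w hjp (hlt r hr), ← mul_assoc, ← Int.cast_mul, Ok.eta_sq, Int.cast_one, one_mul] at e
          rw [← e, show (h.nG (F := F) j)⁻¹ * (h.nG j * h.xG (P.w j r) ((P.eta j (P.w j r) : F) * t) * (h.nG j)⁻¹) *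
            ((h.nG j)⁻¹)⁻¹ = h.xG (P.w j r) ((P.eta j (P.w j r) : F) * t) by group]
          exact h.xG_mem_genR hwr _
      have h3 : (h.nG j)⁻¹ * (h.nG j * x * (h.nG j)⁻¹) * ((h.nG j)⁻¹)⁻¹ ∈ h.genR (F := F) S := this hx
      rwa [show (h.nG j)⁻¹ * (h.nG j * x * (h.nG j)⁻¹) * ((h.nG j)⁻¹)⁻¹ = x by group] at h3

/-- A root element in the group. -/
def xD (r : ℕ) (t : F) : D.group F := ⟨h.xG r t, h.mem_group_of_xG r t⟩

/-- The root elements below the two terms. -/
def Below (n : D.group F) (a b : ℕ → Prop) (X : Subgroup (D.group F) × Subgroup (D.group F)) : Prop :=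
  (∀ r < P.nroots, a r → ∀ t : F, xD h r t ∈ X.1) ∧
    ∀ r < P.nroots, b r → ∀ t : F, n * xD h r t * n⁻¹ ∈ X.2

theorem below_base {k : ℕ} {n : D.group F} {a : ℕ → Prop}
    (ha : ∀ r < P.nroots, a r → P.isPos r = true ∨ P.rv r k = 0) :
    Below h n a a (maxPar D F k, (maxPar D F k).map (MulAut.conj n).toMonoidHom) := by
  have key : ∀ r < P.nroots, a r → ∀ t : F, xD h r t ∈ maxPar D F k := by
    intro r hr hp t
    rcases ha r hr hp with hp | hp
    · exact Subgroup.mem_sup_left (Subgroup.mem_sup_left (h.xG_mem_pos hp t))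
    · refine h.inJ_mem_parabolic _ ⟨hr, fun m _ hm => ?_⟩ t
      rw [show m = k from not_not.1 hm]; exact hp
  exact ⟨key, fun r hr hp t => Subgroup.mem_map.2 ⟨_, key r hr hp t, rfl⟩⟩

/-- One step down. -/
theorem below_succ (hC : P.ckComm = true) {k : ℕ} (hk : k < P.rank) {a b S T : ℕ → Prop} (m : ℕ)
    (hb : Below h (wG h [k] (wordOk_single hk)) a b
      (cores (maxPar D F k) ((maxPar D F k).map (MulAut.conj (wG h [k] (wordOk_single hk))).toMonoidHom) m))
    (hSlt : ∀ s, S s → s < P.nroots) (hTlt : ∀ s, T s → s < P.nroots)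
    (hS : ∀ s, S s → a s ∧ b (P.w k s)) (hT : ∀ s, T s → b s ∧ a (P.w k s))
    (hSpos : ∀ r, P.isPos r = true → ∀ s, S s → s = r ∨ (s ≠ P.ng r ∧ ∀ c ∈ P.cterms r s, S c.1))
    (hTpos : ∀ r, P.isPos r = true → ∀ s, T s → s = r ∨ (s ≠ P.ng r ∧ ∀ c ∈ P.cterms r s, T c.1))
    (hSw : ∀ j, j ≠ k → j < P.rank → ∀ s, S s → S (P.w j s))
    (hTw : ∀ j, j ≠ k → j < P.rank → ∀ s, T s → T (P.w j s)) :
    Below h (wG h [k] (wordOk_single hk)) S T
      (cores (maxPar D F k) ((maxPar D F k).map (MulAut.conj (wG h [k] (wordOk_single hk))).toMonoidHom) (m + 1)) := by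
  set n := wG (F := F) h [k] (wordOk_single hk) with hn
  set M₁ := maxPar D F k with hM₁
  set M₂ := M₁.map (MulAut.conj n).toMonoidHom with hM₂
  set X := (cores M₁ M₂ m).1 ⊓ (cores M₁ M₂ m).2 with hX
  have hη : ∀ s, (P.eta k s : F) * P.eta k s = 1 := fun s => by
    rw [← Int.cast_mul, Ok.eta_sq, Int.cast_one]
  have conjx : ∀ r < P.nroots, ∀ t : F, n * xD h r t * n⁻¹ = xD h (P.w k r) ((P.eta k r : F) * t) := by
    intro r hr t
    apply Subtype.ext
    show h.nW [k] * h.xG r t * (h.nW [k])⁻¹ = _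
    rw [show h.nW (F := F) [k] = h.nG k from List.prod_singleton]
    exact h.nG_xG hk hr t
  have hinf : ∀ r, S r → ∀ t : F, xD h r t ∈ X := by
    intro r hr t
    refine Subgroup.mem_inf.2 ⟨hb.1 r (hSlt r hr) (hS r hr).1 t, ?_⟩
    have := hb.2 _ (h.w_lt hk (hSlt r hr)) (hS r hr).2 ((P.eta k (P.w k r) : F) * t)
    rwa [conjx _ (h.w_lt hk (hSlt r hr)), ← mul_assoc, hη, one_mul, h.w_w hk (hSlt r hr)] at this
  have hinfT : ∀ r, T r → ∀ t : F, n * xD h r t * n⁻¹ ∈ X := by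
    intro r hr t
    refine Subgroup.mem_inf.2 ⟨?_, hb.2 r (hTlt r hr) (hT r hr).1 t⟩
    rw [conjx r (hTlt r hr)]
    exact hb.1 _ (h.w_lt hk (hTlt r hr)) (hT r hr).2 _
  have hX₁ : ∀ x ∈ X, x ∈ M₁ ∧ x ∈ M₂ := by
    intro x hx
    obtain ⟨h1, h2⟩ := Subgroup.mem_inf.1 hx
    cases m with
    | zero => exact ⟨h1, h2⟩
    | succ m => exact ⟨(mem_coreIn.1 h1).1, (mem_coreIn.1 h2).1⟩
  have hnS := parabolic_normalizes (F := F) h hC {j : ℕ | j ≠ k} hSlt hSpos hSw
  have hnT := parabolic_normalizes (F := F) h hC {j : ℕ | j ≠ k} hTlt hTpos hTw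
  refine ⟨fun r _ hr t => mem_coreIn.2 ⟨(hX₁ _ (hinf r hr t)).1, fun g hg => ?_⟩,
    fun r _ hr t => mem_coreIn.2 ⟨(hX₁ _ (hinfT r hr t)).2, fun g hg => ?_⟩⟩
  · have hle : h.genR (F := F) S ≤ X.map (D.group F).subtype :=
      h.genR_le fun s hs u => ⟨_, hinf s hs u, rfl⟩
    obtain ⟨y, hy, e⟩ := hle ((Subgroup.mem_normalizer_iff.1 (hnS (Subgroup.mem_subgroupOf.1 hg)) _).1
      (h.xG_mem_genR hr t))
    rw [show g * xD h r t * g⁻¹ = y from Subtype.ext e.symm]
    exact hy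
  · obtain ⟨g', hg', rfl⟩ := Subgroup.mem_map.1 hg
    have hle : h.genR (F := F) T ≤ (X.comap (MulAut.conj n).toMonoidHom).map (D.group F).subtype :=
      h.genR_le fun s hs u => ⟨_, hinfT s hs u, rfl⟩
    obtain ⟨y, hy, e⟩ := hle ((Subgroup.mem_normalizer_iff.1 (hnT (Subgroup.mem_subgroupOf.1 hg')) _).1
      (h.xG_mem_genR hr t))
    have hy' : n * y * n⁻¹ ∈ X := hy
    rw [show y = g' * xD h r t * g'⁻¹ from Subtype.ext e] at hy'
    rw [show (MulAut.conj n).toMonoidHom g' * (n * xD h r t * n⁻¹) * ((MulAut.conj n).toMonoidHom g')⁻¹ =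
      n * (g' * xD h r t * g'⁻¹) * n⁻¹ by
        simp only [MulEquiv.toMonoidHom_eq_coe, MonoidHom.coe_coe, MulAut.conj_apply]; group]
    exact hy'

/-- The parabolic subgroup omitting one node is a maximal subgroup. -/
theorem maxPar_coatom (hC : P.ckComm = true) {k : ℕ} (hk : k < P.rank) :
    IsCoatom (maxPar D F k) := by
  have hnot : h.nG (F := F) k ∉ D.parabolicSubgroup F {j : ℕ | j ≠ k} := by
    intro hmem
    have hs := h.sim_lt hk
    have hf := filt_parabolic h hk hmem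
    have hcol := fun x => (perm_nG (F := F) h hk) x (h.rootIdx (P.sim k) hs)
    have hinv := congrFun (congrFun (Units.inv_mul (h.nG (F := F) k)) (h.rootIdx (P.sim k) hs))
      (h.rootIdx (P.sim k) hs)
    rw [Matrix.mul_apply, Matrix.one_apply_eq] at hinv
    refine zero_ne_one (α := F) ?_
    rw [← hinv, Finset.sum_eq_zero]
    intro x _
    by_contra hne
    rcases hcol x (right_ne_zero_of_mul hne) with ⟨h3, -⟩ | ⟨-, h3, h4⟩
    · exact absurd hs (not_lt.2 h3)
    · have h5 := hf _ _ (right_ne_zero_of_mul hne)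
      simp only [ev] at h5
      rw [if_pos (show code P (h.rootIdx (D := D) (P.sim k) hs) < P.nroots from hs), if_pos h4, h3,
        show code P (h.rootIdx (D := D) (P.sim k) hs) = P.sim k from rfl, h.w_sim hk,
        h.rv_ng hs hk, h.rv_sim hk hk, if_pos rfl] at h5
      omega
  refine ⟨fun e => hnot ?_, fun M' hlt => ?_⟩
  · exact (show (⟨h.nG k, h.monomial_le_group (h.nG_mem hk)⟩ : D.group F) ∈ maxPar D F k from e ▸ Subgroup.mem_top _)
  set B := h.bnPair (F := F) hC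
  have hB : B.B ≤ maxPar D F k := fun x hx => Subgroup.mem_sup_left (Subgroup.mem_subgroupOf.1 hx)
  have hS : ∀ x ∈ B.S, x ∈ M' := by
    rintro _ ⟨i, rfl⟩
    by_cases hi : i.val = k
    · by_contra hn
      refine hlt.not_ge ?_
      rw [BN.eq_parabolic B (hB.trans hlt.le)]
      refine sup_le hB ((Subgroup.closure_le _).2 ?_)
      rintro _ ⟨⟨j, rfl⟩, hjM⟩
      by_cases hj : j.val = k
      · rw [show j = i from Fin.ext (hj.trans hi.symm)] at hjM
        exact absurd hjM hn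
      · exact h.nG_mem_parabolic (show j.val ∈ {j : ℕ | j ≠ k} from hj) j.isLt
    · exact hlt.le (h.nG_mem_parabolic (show i.val ∈ {j : ℕ | j ≠ k} from hi) i.isLt)
  rw [eq_top_iff, ← B.sup_eq_top]
  refine sup_le (hB.trans hlt.le) ?_
  rw [← B.closure_sup]
  exact sup_le ((Subgroup.closure_le _).2 hS) (inf_le_left.trans (hB.trans hlt.le))

/-- The conjugate by the omitted reflection is different. -/
theorem maxPar_conj_ne {k : ℕ} (hk : k < P.rank) :
    maxPar D F k ≠ (maxPar D F k).map (MulAut.conj (wG h [k] (wordOk_single hk))).toMonoidHom := by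
  intro e
  have hs := h.sim_lt hk
  have hn := Ok.ng_lt (P := P) hs
  have hx : wG h [k] (wordOk_single hk) * xD h (P.sim k) (1 : F) * (wG h [k] (wordOk_single hk))⁻¹ ∈
      maxPar D F k := by
    rw [e]
    exact Subgroup.mem_map.2 ⟨_, Subgroup.mem_sup_left (Subgroup.mem_sup_left (h.xG_mem_pos (h.sim_pos hk) 1)), rfl⟩
  have h1 : h.nW [k] * h.xG (P.sim k) (1 : F) * (h.nW [k])⁻¹ ∈ D.parabolicSubgroup F {j : ℕ | j ≠ k} := hx
  rw [show h.nW (F := F) [k] = h.nG k from List.prod_singleton, h.nG_sim hk] at h1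
  have hf := filt_parabolic h hk h1
  rw [h.coe_xG' hn] at hf
  have hη : (P.eta k (P.sim k) : F) ≠ 0 := by
    rcases h.eta_cases k (P.sim k) with h2 | h2 <;> rw [h2] <;> simp
  have h3 := hf (h.hIdx k hk) (h.rootIdx _ (Ok.ng_lt hn)) (by
    rw [h.X_coroot hn, mul_one, h.co_ng hs hk, h.co_sim hk hk, if_pos rfl]
    exact mul_ne_zero hη (by simp))
  simp only [ev] at h3
  rw [if_pos (show code P (h.rootIdx (D := D) _ (Ok.ng_lt hn)) < P.nroots from Ok.ng_lt hn),
    if_neg (show ¬ code P (h.hIdx (D := D) k hk) < P.nroots from not_lt.2 (Nat.le_add_right _ _))] at h3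
  have h4 : P.rv (P.ng (P.ng (P.sim k))) k ≤ 0 := h3
  rw [Ok.ng_ng hs, h.rv_sim hk hk, if_pos rfl] at h4
  omega

end Cfsg.Agent.IterCore
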