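/-
Two conjugate maximal subgroups of `E₈(7)` whose sixth relative core is trivial and the fifth is not.
-/
import Cfsg.Agent.Lib.IterCore.Lower
import Cfsg.Agent.Lib.IterCore.Final
import Cfsg.Agent.Lib.IterCore.Cert
import Cfsg.Agent.Lib.Chev.AllS

set_option autoImplicit false

namespace Cfsg.Agent.IterCore

open Cfsg.Lie Cfsg.Agent.Chev
open scoped Matrix

/-- The field. -/
abbrev F7 : Type := ZMod 7

instance : Fact (Nat.Prime 7) := ⟨by norm_num⟩

/-- The ambient group. -/
abbrev G8 : Type := ↥(chevE8.group F7)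

/-- The first maximal subgroup. -/
noncomputable def M1 : Subgroup G8 := maxPar chevE8 F7 3

theorem three_lt : 3 < E8.pk.rank := by decide +kernel

/-- The conjugating element. -/
noncomputable def g0 : G8 := wG E8.ok [3] (wordOk_single three_lt)

/-- The second maximal subgroup. -/
noncomputable def M2 : Subgroup G8 := M1.map (MulAut.conj g0).toMonoidHom

theorem g0_val : (g0 : GL chevE8.Idx F7) = E8.ok.nG 3 := List.prod_singleton

theorem nroots_eq : E8.pk.nroots = 240 := by decide +kernel

theorem rank_eq : E8.pk.rank = 8 := by decide +kernel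

theorem intCast_ne {z : ℤ} (hz : (z % 7 == 0) = false) : (z : F7) ≠ 0 := by
  intro e
  rw [ZMod.intCast_zmod_eq_zero_iff_dvd] at e
  rw [beq_eq_false_iff_ne] at hz
  exact hz (Int.emod_eq_zero_of_dvd e)

theorem pword'_eq (s₀ : Bool) : ∀ steps, pword' (s₀, steps) = pword 3 s₀ steps
  | [] => by simp only [pword', pword]
  | (s, u) :: rest => by simp only [pword', pword, pword'_eq s₀ rest]

/-- The values of the certified functionals bound the sixth term. -/
theorem filt_six {p : (Bool × List (Bool × List ℕ)) × List ℤ × ℕ} (hp : p ∈ paths) {x : G8}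
    (hx : x ∈ (cores M1 M2 6).1) :
    Filt E8.pk (fun r => (tval p.2.2 r : ℤ) - 128) ((x : GL chevE8.Idx F7) : Matrix chevE8.Idx chevE8.Idx F7) := by
  have hck := List.all_eq_true.1 ckPath_ok p hp
  simp only [ckPath, Bool.and_eq_true, List.all_eq_true, decide_eq_true_eq, Pk.mem_allRoots] at hck
  obtain ⟨⟨⟨⟨hlen, hside⟩, hlet⟩, hvec⟩, hval⟩ := hck
  obtain ⟨⟨s₀, steps⟩, c, T⟩ := p
  simp only at hlen hside hlet hvec hval ⊢
  have hlen' : steps.length = 6 := Nat.eq_of_beq_eq_true hlen
  have hs : ∀ s ∈ steps, ∀ i ∈ s.2, i < E8.pk.rank ∧ i ≠ 3 := by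
    intro s hs i hi
    have := hlet s hs i hi
    simp only [Nat.blt_eq, Bool.not_eq_true'] at this
    exact ⟨rank_eq ▸ this.1, fun e => by rw [e] at this; simp at this⟩
  have hside' : side s₀ steps = false := by
    match steps, hlen' with
    | (s, u) :: rest, _ => simpa [side] using hside
  have hu := upper (F := F7) E8.ok three_lt s₀ steps hs x (by
    rw [hlen', hside']
    exact hx)
  intro row col hne
  have h1 := hu row col hne
  have key : ∀ r < E8.pk.nroots, lvl E8.pk 3 (pword 3 s₀ steps) r = (tval T r : ℤ) - 128 := by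
    intro r hr
    rw [lvl_eq E8.ok three_lt (pword_ok E8.ok three_lt s₀ steps hs) hr, ← pword'_eq, hvec, hval r hr]
    omega
  simp only [ev] at h1 ⊢
  split_ifs at h1 ⊢ with a b
  · rwa [← key _ a, ← key _ b]
  · rwa [← key _ a]
  · rename_i b
    rwa [← key _ b]
  · exact h1

theorem shape_six {x : G8} (hx : x ∈ (cores M1 M2 6).1) :
    Shape E8.pk ((x : GL chevE8.Idx F7) : Matrix chevE8.Idx chevE8.Idx F7) := by
  intro row col hrc hne
  have hsg := ckSigns_ok
  simp only [ckSigns, Bool.and_eq_true, List.all_eq_true, List.any_eq_true, Pk.mem_allRoots, Nat.blt_eq] at hsg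
  by_cases ha : code E8.pk row < E8.pk.nroots <;> by_cases hb : code E8.pk col < E8.pk.nroots
  · have hsep := List.all_eq_true.1 ckSep_ok _ ((Pk.mem_allRoots _).2 hb)
    simp only [ckSep, List.all_eq_true, Pk.mem_allRoots] at hsep
    have h2 := hsep _ ha
    simp only [Bool.or_eq_true, Bool.and_eq_true, List.any_eq_true, Nat.blt_eq, Bool.not_eq_true',
      List.mem_range] at h2
    rcases h2 with (h2 | ⟨p, hp, hlt⟩) | ⟨⟨hc, hr⟩, i, hi, hA⟩
    · exact absurd (E8.ok.code_inj (Nat.eq_of_beq_eq_true h2).symm) hrc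
    · have := filt_six hp hx row col hne
      simp only [ev, if_pos ha, if_pos hb] at this
      omega
    · refine Or.inr ⟨hr, hb, hc, i, rank_eq ▸ hi, fun e => intCast_ne hA ?_⟩
      push_cast
      rw [e, sub_self]
  · obtain ⟨-, p, hp, hlt⟩ := hsg _ ha
    have := filt_six hp hx row col hne
    simp only [ev, if_pos ha, if_neg hb] at this
    omega
  · obtain ⟨⟨p, hp, hlt⟩, -⟩ := hsg _ hb
    have := filt_six hp hx row col hne
    simp only [ev, if_neg ha, if_pos hb] at this
    omega
  · exact Or.inl ⟨not_lt.1 ha, not_lt.1 hb⟩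

theorem xG_pos_mem_M1 {r : ℕ} (hr : E8.pk.isPos r = true) (t : F7) :
    (⟨E8.ok.xG r t, E8.ok.mem_group_of_xG r t⟩ : G8) ∈ M1 :=
  Subgroup.mem_sup_left (Subgroup.mem_sup_left (E8.ok.xG_mem_pos hr t))

theorem six_eq_bot : (cores M1 M2 6).1 = ⊥ := by
  have key : ((cores M1 M2 6).1.map (chevE8.group F7).subtype) = ⊥ := by
    refine shape_bot E8.ok (Subgroup.map_subtype_le _) ?_ ?_ ?_ ?_ ?_
    · rintro r hr _ ⟨x, hx, rfl⟩
      exact ⟨_, coreIn_conj hx (xG_pos_mem_M1 hr 1), rfl⟩
    · rintro _ ⟨x, hx, rfl⟩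
      exact shape_six hx
    · intro r hr
      have hz := ckNz_ok
      simp only [ckNz, List.all_eq_true, Pk.mem_allRoots, List.any_eq_true, List.mem_range,
        Bool.not_eq_true'] at hz
      obtain ⟨i, hi, hA⟩ := hz r hr
      exact ⟨i, rank_eq ▸ hi, intCast_ne hA⟩
    · intro f hf
      have he : ∀ i j : ℕ, i < 8 → j < 8 → (E8.pk.A i (E8.pk.sim j) % 7 == 0) = false → f i = f j :=
        fun i j hi hj hA => hf i (rank_eq ▸ hi) j (rank_eq ▸ hj) (intCast_ne hA)
      have e20 := he 2 0 (by omega) (by omega) (by decide +kernel)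
      have e32 := he 3 2 (by omega) (by omega) (by decide +kernel)
      have e13 := he 1 3 (by omega) (by omega) (by decide +kernel)
      have e43 := he 4 3 (by omega) (by omega) (by decide +kernel)
      have e54 := he 5 4 (by omega) (by omega) (by decide +kernel)
      have e65 := he 6 5 (by omega) (by omega) (by decide +kernel)
      have e76 := he 7 6 (by omega) (by omega) (by decide +kernel)
      intro i hi
      rw [rank_eq] at hi
      interval_cases i <;> simp only [e76, e65, e54, e43, e13, e32, e20]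
    · decide
  exact (Subgroup.map_eq_bot_iff_of_injective _ (Subgroup.subtype_injective _)).1 key

theorem memB_iff {L : List ℕ} {r : ℕ} : memB L r = true ↔ r ∈ L := by
  simp only [memB, List.any_eq_true]
  exact ⟨fun ⟨x, hx, e⟩ => Nat.eq_of_beq_eq_true e ▸ hx, fun hr => ⟨r, hr, Nat.beq_refl r⟩⟩

theorem norm_spec {S : List ℕ} (hS : ckNorm S = true) :
    (∀ s, s ∈ S → s < E8.pk.nroots) ∧
    (∀ r, E8.pk.isPos r = true → ∀ s, s ∈ S → s = r ∨ (s ≠ E8.pk.ng r ∧ ∀ c ∈ E8.pk.cterms r s, c.1 ∈ S)) ∧
    (∀ j, j ≠ 3 → j < E8.pk.rank → ∀ s, s ∈ S → E8.pk.w j s ∈ S) := by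
  simp only [ckNorm, Bool.and_eq_true, List.all_eq_true, Pk.mem_allRoots, Bool.or_eq_true,
    Nat.blt_eq, Bool.not_eq_true', List.mem_range, memB_iff] at hS
  obtain ⟨hw, hpos⟩ := hS
  refine ⟨fun s hs => nroots_eq.symm ▸ (hw s hs).1, fun r hr s hs => ?_, fun j hj hjr s hs => ?_⟩
  · rcases hpos r (E8.pk.isPos_iff.1 hr).2 with h0 | h0
    · rw [hr] at h0; simp at h0
    rcases h0 s hs with h1 | ⟨h1, h2⟩
    · exact Or.inl (Nat.eq_of_beq_eq_true h1)
    · exact Or.inr ⟨fun e => by rw [e] at h1; simp at h1, h2⟩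
  · rcases (hw s hs).2 j (rank_eq ▸ hjr) with h1 | h1
    · exact absurd (Nat.eq_of_beq_eq_true h1) hj
    · exact h1

theorem below_steps : ∀ (rest : List (List ℕ × List ℕ)) (a b : ℕ → Bool) (n : ℕ),
    ckDown a b rest = true →
    Below E8.ok g0 (fun r => a r = true) (fun r => b r = true) (cores M1 M2 n) →
    ∀ i p, rest[i]? = some p →
      Below E8.ok g0 (fun r => memB p.1 r = true) (fun r => memB p.2 r = true) (cores M1 M2 (n + i + 1))
  | [], _, _, _, _, _, i, p, hp => by simp at hp
  | (S, T) :: rest, a, b, n, hck, hb, i, p, hp => by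
    simp only [ckDown, Bool.and_eq_true] at hck
    obtain ⟨⟨⟨⟨hS, hT⟩, hnS⟩, hnT⟩, hrest⟩ := hck
    simp only [List.all_eq_true, Bool.and_eq_true] at hS hT
    obtain ⟨s1, s2, s3⟩ := norm_spec hnS
    obtain ⟨t1, t2, t3⟩ := norm_spec hnT
    have hnext := below_succ (F := F7) E8.ok ckComm_E8 three_lt (S := fun r => memB S r = true)
      (T := fun r => memB T r = true) n hb
      (fun s hs => s1 s (memB_iff.1 hs)) (fun s hs => t1 s (memB_iff.1 hs))
      (fun s hs => hS s (memB_iff.1 hs)) (fun s hs => hT s (memB_iff.1 hs))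
      (fun r hr s hs => (s2 r hr s (memB_iff.1 hs)).imp_right fun hh =>
        ⟨hh.1, fun c hc => memB_iff.2 (hh.2 c hc)⟩)
      (fun r hr s hs => (t2 r hr s (memB_iff.1 hs)).imp_right fun hh =>
        ⟨hh.1, fun c hc => memB_iff.2 (hh.2 c hc)⟩)
      (fun j hj hjr s hs => memB_iff.2 (s3 j hj hjr s (memB_iff.1 hs)))
      (fun j hj hjr s hs => memB_iff.2 (t3 j hj hjr s (memB_iff.1 hs)))
    match i with
    | 0 =>
      simp only [List.getElem?_cons_zero, Option.some.injEq] at hp
      subst hp
      exact hnext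
    | i + 1 =>
      simp only [List.getElem?_cons_succ] at hp
      have := below_steps rest _ _ (n + 1) hrest hnext i p hp
      rwa [show n + 1 + i + 1 = n + (i + 1) + 1 by omega] at this

theorem five_ne_bot : (cores M1 M2 5).1 ≠ ⊥ := by
  intro e
  have hne := low_nonempty
  cases hp : lowS[4]? with
  | none => rw [hp] at hne; simp at hne
  | some p =>
    rw [hp] at hne
    obtain ⟨S, T⟩ := p
    cases S with
    | nil => simp at hne
    | cons r S' =>
      have hb0 : Below E8.ok g0 (fun r => inPar r = true) (fun r => inPar r = true) (cores M1 M2 0) :=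
        below_base (F := F7) E8.ok (k := 3) (n := g0) fun r _ hp => by
          simpa [inPar] using hp
      have hb := below_steps lowS inPar inPar 0 ckDown_ok hb0 4 _ hp
      have hall : ∀ (L : List (List ℕ × List ℕ)) a b, ckDown a b L = true → ∀ q ∈ L, ckNorm q.1 = true := by
        intro L
        induction L with
        | nil => intro _ _ _ q hq; exact absurd hq List.not_mem_nil
        | cons x L ih =>
          obtain ⟨S₁, T₁⟩ := x
          intro a b hab q hq
          simp only [ckDown, Bool.and_eq_true] at hab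
          rcases List.mem_cons.1 hq with rfl | hq
          · exact hab.1.1.2
          · exact ih _ _ hab.2 q hq
      have hr : r < E8.pk.nroots :=
        (norm_spec (hall _ _ _ ckDown_ok _ (List.mem_of_getElem? hp))).1 r List.mem_cons_self
      have hm := hb.1 r hr (memB_iff.2 List.mem_cons_self) (1 : F7)
      rw [e, Subgroup.mem_bot] at hm
      exact one_ne_zero (α := F7) (E8.ok.xG_inj_param hr
        ((congrArg Subtype.val hm).trans (E8.ok.xG_zero (F := F7) (r := r)).symm))

theorem M1_coatom : IsCoatom M1 := maxPar_coatom E8.ok ckComm_E8 three_lt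

theorem M1_ne_M2 : M1 ≠ M2 := maxPar_conj_ne E8.ok three_lt

theorem M1_core : M1.normalCore = ⊥ := by
  have := (E8.ok.simple (F := F7) ckComm_E8 ckConn_E8 (E8.ok.perfect_all ckComm_E8 ckPerf_E8)).1
  rcases (inferInstance : M1.normalCore.Normal).eq_bot_or_eq_top with h1 | h1
  · exact h1
  · exact absurd (top_le_iff.1 (h1 ▸ M1.normalCore_le)) M1_coatom.1

end Cfsg.Agent.IterCore
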